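import Cfsg.Agent.Lib.Block.CpQuot.Basic
import Cfsg.Agent.Lib.Classical.SLNormal
import Cfsg.Agent.Lib.Classical.SLGroup
import Cfsg.Agent.S2086
import Cfsg.Agent.S3974

/-!
The double cover of PSL₂(q), q a prime at least 5, is SL₂(q).
-/

set_option autoImplicit false

namespace Cfsg.Agent.Grp.CTwoAb

universe u

theorem nonempty_SLTwo {K : Type u} [Group K] [Finite K] (hq : Cfsg.IsQuasisimple K) {F : Type} [Field F]
    [Fintype F] (hp : (Fintype.card F).Prime) (h5 : 5 ≤ Fintype.card F) (hne : Subgroup.center K ≠ ⊥)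
    (e : K ⧸ Subgroup.center K ≃* Matrix.ProjectiveSpecialLinearGroup (Fin 2) F) :
    Nonempty (K ≃* Matrix.SpecialLinearGroup (Fin 2) F) := by
  haveI : Small.{0} K := inferInstance
  haveI : Fact (Nat.Prime 2) := ⟨Nat.prime_two⟩
  set q := Fintype.card F with hqd
  have hodd : q % 2 = 1 := Nat.odd_iff.1 (hp.odd_of_ne_two (by omega))
  have hm : Cfsg.HasCyclicSchurMultiplier (Matrix.ProjectiveSpecialLinearGroup (Fin 2) F) 2 := by
    have h := S2086.result (F := F) rfl 2 le_rfl (fun _ => by omega) (by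
      simp only [Set.mem_insert_iff, Set.mem_singleton_iff, Prod.mk.injEq]
      rintro (⟨-, h⟩ | ⟨-, h⟩ | ⟨h, -⟩ | ⟨h, -⟩ | ⟨h, -⟩)
      · omega
      · exact absurd hp (by rw [hqd, h]; decide)
      all_goals omega)
    rwa [← hqd, Nat.gcd_eq_left (show 2 ∣ q - 1 by omega)] at h
  have hK2 : Nat.card (Subgroup.center K) = 2 := by
    have h := Block.CpQuot.card_center_dvd hm hq e
    rw [Nat.card_congr Multiplicative.toAdd, Nat.card_zmod] at h
    exact ((Nat.dvd_prime Nat.prime_two).1 h).resolve_left fun h1 => hne (Subgroup.card_eq_one.1 h1)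
  let E : Shrink.{0} K ≃* K := Shrink.mulEquiv
  haveI : Finite (Shrink.{0} K) := Finite.of_equiv K E.symm.toEquiv
  let σ₁ : Shrink.{0} K →* Matrix.ProjectiveSpecialLinearGroup (Fin 2) F :=
    (e.toMonoidHom.comp (QuotientGroup.mk' _)).comp E.toMonoidHom
  have hker : ∀ x, x ∈ σ₁.ker ↔ E x ∈ Subgroup.center K := fun x => by
    rw [MonoidHom.mem_ker]
    show e (QuotientGroup.mk (E x)) = 1 ↔ _
    rw [map_eq_one_iff e e.injective, QuotientGroup.eq_one_iff]
  have h1 : Cfsg.IsStemExtension σ₁ := by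
    refine ⟨(e.surjective.comp (QuotientGroup.mk'_surjective _)).comp E.surjective, fun x hx =>
      Subgroup.mem_center_iff.2 fun y => E.injective ?_, fun x _ => ?_⟩
    · rw [map_mul, map_mul]
      exact Subgroup.mem_center_iff.1 ((hker x).1 hx) (E y)
    · haveI := hq.1
      haveI : Group.IsPerfect (Shrink.{0} K) :=
        Group.IsPerfect.ofSurjective (f := E.symm.toMonoidHom) E.symm.surjective
      rw [‹Group.IsPerfect (Shrink.{0} K)›.commutator_eq_top]
      trivial
  let σ₂ : Matrix.SpecialLinearGroup (Fin 2) F →* Matrix.ProjectiveSpecialLinearGroup (Fin 2) F :=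
    QuotientGroup.mk' _
  have hperf : commutator (Matrix.SpecialLinearGroup (Fin 2) F) = ⊤ := by
    refine Classical.SL_commutator_eq_top fun _ => ⟨2, fun h => ?_, fun h => ?_⟩
    · haveI : CharP F q := charP_of_card_eq_prime (hqd.symm) (hp := ⟨hp⟩)
      have h2 : ((2 : ℕ) : F) = 0 := by exact_mod_cast h
      rw [CharP.cast_eq_zero_iff F q] at h2
      exact absurd (Nat.le_of_dvd two_pos h2) (by omega)
    · haveI : CharP F q := charP_of_card_eq_prime (hqd.symm) (hp := ⟨hp⟩)
      have h3 : ((3 : ℕ) : F) = 0 := by push_cast; linear_combination h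
      rw [CharP.cast_eq_zero_iff F q] at h3
      exact absurd (Nat.le_of_dvd (by norm_num) h3) (by omega)
  have hk2 : σ₂.ker = Subgroup.center _ := QuotientGroup.ker_mk' _
  have h2 : Cfsg.IsStemExtension σ₂ :=
    ⟨QuotientGroup.mk'_surjective _, hk2.le, fun _ _ => hperf ▸ Subgroup.mem_top _⟩
  have hA : Nat.card (Multiplicative (ZMod 2)) = 2 := by rw [Nat.card_congr Multiplicative.toAdd, Nat.card_zmod]
  have c1 : Nat.card σ₁.ker = 2 := by
    exact (Nat.card_congr (E.toEquiv.subtypeEquiv fun x => hker x)).trans hK2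
  have c2 : Nat.card σ₂.ker = 2 := by
    rw [hk2, Classical.natCard_center_SL, Nat.card_units, Nat.card_eq_fintype_card, ← hqd]
    exact Nat.gcd_eq_left (show 2 ∣ q - 1 by omega)
  have hcop : Nat.Coprime (Nat.card (Abelianization (Matrix.ProjectiveSpecialLinearGroup (Fin 2) F)))
      (Nat.card (Multiplicative (ZMod 2))) := by
    haveI : Group.IsPerfect (Matrix.ProjectiveSpecialLinearGroup (Fin 2) F) :=
      by
      haveI : Group.IsPerfect (Matrix.SpecialLinearGroup (Fin 2) F) := ⟨hperf⟩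
      exact Group.IsPerfect.ofSurjective (f := σ₂) (QuotientGroup.mk'_surjective _)
    have h : Nat.card (Abelianization (Matrix.ProjectiveSpecialLinearGroup (Fin 2) F)) = 1 := by
      show (commutator (Matrix.ProjectiveSpecialLinearGroup (Fin 2) F)).index = 1
      rw [‹Group.IsPerfect (Matrix.ProjectiveSpecialLinearGroup (Fin 2) F)›.commutator_eq_top, Subgroup.index_top]
    rw [h]
    exact Nat.coprime_one_left _
  obtain ⟨g, -⟩ := (S3974.result hm).2 hcop (Shrink.{0} K) (Matrix.SpecialLinearGroup (Fin 2) F) σ₁ σ₂ h1 h2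
    ⟨mulEquivOfPrimeCardEq c1 hA⟩ ⟨mulEquivOfPrimeCardEq c2 hA⟩
  exact ⟨E.symm.trans g⟩

end Cfsg.Agent.Grp.CTwoAb
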